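/-
The action with its checks.
-/
import Cfsg.Agent.Lib.Spor.Suz.Act8.Orbits
import Cfsg.Agent.Lib.Spor.Suz.C0.All
import Cfsg.Agent.Lib.Spor.Suz.Act8.Range0
import Cfsg.Agent.Lib.Spor.Suz.Act8.Range1
import Cfsg.Agent.Lib.Spor.Suz.Act8.Range2

namespace CfsgLib.Spor.Suz.Act8

open CfsgLib.Spor.TC

theorem valid : act.Valid relsG :=
  ⟨(((((((range0.append _ range238).append _ range476).append _ range714).append _ range952).append _ range1190).append _ range1428).append _ range1666), by decide +kernel, by decide +kernel⟩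

/-- The action on the cosets. -/
noncomputable def cosetData : act.CosetData relsG [0, 1, 2, 3, 4, 5] :=
  ⟨valid, by decide, CfsgLib.Spor.Suz.C0.cosetCert, top, top_ok, rfl, rfl, parts, parts_ok⟩

end CfsgLib.Spor.Suz.Act8
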